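import Groth.Prelude.Def_Found
import Mathlib
import Groth.Agent.MorLib.RingUnivHomeo

/-!
# Eventual stability of reduced base changes of finite birational subalgebras
-/

set_option autoImplicit false
set_option linter.style.haveILetI false
universe u

open TensorProduct

namespace Groth.Agent.RedTensLib

variable (A K' : Type u) [CommRing A] [IsDomain A] [Field K'] [Algebra A K']
  [Algebra (FractionRing A) K'] [IsScalarTower A (FractionRing A) K']

/-- Finite subalgebras with fraction field the whole field. -/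
def Member (C : Subalgebra A K') : Prop :=
  Module.Finite A C ∧ ∀ x : K', ∃ a b : C, (b : K') ≠ 0 ∧ x * b = a

variable {A K'}

theorem member_sup {C D : Subalgebra A K'} (hC : Member A K' C) (hD : Module.Finite A D) :
    Member A K' (C ⊔ D) := by
  haveI := hC.1
  refine ⟨Subalgebra.finite_sup C D, fun x => ?_⟩
  obtain ⟨a, b, hb, h⟩ := hC.2 x
  exact ⟨⟨a, le_sup_left (b := D) a.2⟩, ⟨b, le_sup_left (b := D) b.2⟩, hb, h⟩

theorem exists_member [FiniteDimensional (FractionRing A) K'] : ∃ C : Subalgebra A K', Member A K' C := by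
  classical
  let e := Module.finBasis (FractionRing A) K'
  obtain ⟨s, hs⟩ : ∃ s : Fin (Module.finrank (FractionRing A) K') → A,
      ∀ i, s i ≠ 0 ∧ IsIntegral A (s i • e i) := by
    choose s hs using fun i => IsIntegral.exists_multiple_integral_of_isLocalization (nonZeroDivisors A) (e i)
      (Algebra.IsIntegral.isIntegral (R := FractionRing A) (e i))
    exact ⟨fun i => (s i : A), fun i => ⟨nonZeroDivisors.coe_ne_zero _, hs i⟩⟩
  let C := Algebra.adjoin A (Set.range fun i => s i • e i)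
  refine ⟨C, Module.Finite.iff_fg.2 (fg_adjoin_of_finite (Set.finite_range _)
    (by rintro _ ⟨i, rfl⟩; exact (hs i).2)), fun x => ?_⟩
  obtain ⟨d, hd⟩ := IsLocalization.exist_integer_multiples_of_finite (nonZeroDivisors A)
    (fun i => e.repr x i / algebraMap A (FractionRing A) (s i))
  choose a ha using hd
  refine ⟨⟨∑ i, a i • (s i • e i), Subalgebra.sum_mem _ fun i _ =>
    C.smul_mem (Algebra.subset_adjoin ⟨i, rfl⟩) _⟩, ⟨algebraMap A K' d, C.algebraMap_mem _⟩, ?_, ?_⟩
  · show algebraMap A K' d ≠ 0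
    rw [IsScalarTower.algebraMap_apply A (FractionRing A) K']
    exact (map_ne_zero _).2 (IsFractionRing.to_map_ne_zero_of_mem_nonZeroDivisors d.2)
  · show x * algebraMap A K' d = ∑ i, a i • (s i • e i)
    conv_lhs => rw [← e.sum_repr x]
    rw [Finset.sum_mul]
    refine Finset.sum_congr rfl fun i _ => ?_
    have h1 : algebraMap A (FractionRing A) (a i) * algebraMap A (FractionRing A) (s i) =
        algebraMap A (FractionRing A) d * e.repr x i := by
      rw [show algebraMap A (FractionRing A) (a i) =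
        algebraMap A (FractionRing A) d * (e.repr x i / algebraMap A (FractionRing A) (s i)) from
          (ha i).trans (Algebra.smul_def _ _), mul_assoc, div_mul_cancel₀]
      exact fun h => (hs i).1 (IsFractionRing.injective A (FractionRing A) (h.trans (map_zero _).symm))
    rw [smul_smul, Algebra.smul_def, Algebra.smul_def, IsScalarTower.algebraMap_apply A (FractionRing A) K' (a i * s i),
      map_mul (algebraMap A (FractionRing A)), h1, map_mul, ← IsScalarTower.algebraMap_apply]
    ring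

variable (B : Type u) [CommRing B] [Algebra A B]

/-- The map to the generic fibre. -/
noncomputable def toT (C : Subalgebra A K') : ↥C ⊗[A] B →ₐ[A] B ⊗[A] K' :=
  (Algebra.TensorProduct.comm A K' B).toAlgHom.comp (Algebra.TensorProduct.map C.val (AlgHom.id A B))

theorem toT_tmul (C : Subalgebra A K') (c : C) (b : B) : toT B C (c ⊗ₜ b) = b ⊗ₜ (c : K') := rfl

theorem toT_incl {C D : Subalgebra A K'} (h : C ≤ D) (x : ↥C ⊗[A] B) :
    toT B D (Algebra.TensorProduct.map (Subalgebra.inclusion h) (AlgHom.id A B) x) = toT B C x := by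
  induction x using TensorProduct.induction_on with
  | zero => simp
  | tmul c b => rfl
  | add x y hx hy => rw [map_add, map_add, map_add, hx, hy]

theorem isNilpotent_of_toT [Module.Flat A B] (C : Subalgebra A K') (z : ↥C ⊗[A] B)
    (h : IsNilpotent (toT B C z)) : IsNilpotent z := by
  refine (IsNilpotent.map_iff (f := toT B C) ((Algebra.TensorProduct.comm A K' B).injective.comp ?_)).1 h
  exact Module.Flat.rTensor_preserves_injective_linearMap C.val.toLinearMap Subtype.val_injective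

theorem isNoetherianRing_fibre [IsNoetherianRing B] [FiniteDimensional (FractionRing A) K'] :
    IsNoetherianRing (B ⊗[A] K') := by
  let K := FractionRing A
  haveI : IsNoetherianRing (B ⊗[A] K) :=
    IsLocalization.isNoetherianRing (Algebra.algebraMapSubmonoid B (nonZeroDivisors A)) _ inferInstance
  haveI : IsNoetherianRing (K ⊗[A] B) :=
    isNoetherianRing_of_ringEquiv _ (Algebra.TensorProduct.comm A B K).toRingEquiv
  haveI : IsNoetherianRing ((K ⊗[A] B) ⊗[K] K') := IsNoetherianRing.of_finite (K ⊗[A] B) ((K ⊗[A] B) ⊗[K] K')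
  exact isNoetherianRing_of_ringEquiv _ (((Algebra.TensorProduct.comm K (K ⊗[A] B) K').toRingEquiv.trans
    (Algebra.TensorProduct.cancelBaseChange A K K' K' B).toRingEquiv).trans
      (Algebra.TensorProduct.comm A K' B).toRingEquiv)

theorem exists_bound [IsNoetherianRing B] [Module.Flat A B] [FiniteDimensional (FractionRing A) K']
    (hJ : ∀ (q : Ideal B) [q.IsPrime], q ∈ minimalPrimes B → CAlg.IsN2 (B ⧸ q))
    (Q : Ideal (B ⊗[A] K')) (hQ : Q ∈ minimalPrimes (B ⊗[A] K')) [Q.IsPrime] :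
    ∃ M : Submodule B (FractionRing ((B ⊗[A] K') ⧸ Q)), M.FG ∧ ∀ k : K', IsIntegral A k →
      algebraMap ((B ⊗[A] K') ⧸ Q) (FractionRing ((B ⊗[A] K') ⧸ Q)) (Ideal.Quotient.mk Q (1 ⊗ₜ k)) ∈ M := by
  classical
  let T := B ⊗[A] K'
  haveI : Module.Flat A K' := Module.Flat.trans A (FractionRing A) K'
  let q := Q.comap (algebraMap B T)
  haveI : Q.LiesOver q := ⟨rfl⟩
  have hq : q ∈ minimalPrimes B := by
    refine ⟨⟨inferInstance, bot_le⟩, fun q' hq' hle => ?_⟩
    rcases hle.lt_or_eq with hlt | he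
    · haveI := hq'.1
      obtain ⟨Q', hQ'lt, hQ', -⟩ := Ideal.exists_ideal_lt_liesOver_of_lt (S := T) Q hlt
      exact absurd (hQ.2 ⟨hQ', bot_le⟩ hQ'lt.le) hQ'lt.not_ge
    · exact he.ge
  let L := FractionRing (T ⧸ Q)
  let φ : T →+* L := (algebraMap (T ⧸ Q) L).comp (Ideal.Quotient.mk Q)
  have hφ : ∀ t, φ t = 0 → t ∈ Q := fun t ht => Ideal.Quotient.eq_zero_iff_mem.1
    (IsFractionRing.injective (T ⧸ Q) L (ht.trans (map_zero _).symm))
  haveI : FaithfulSMul (B ⧸ q) L := (faithfulSMul_iff_algebraMap_injective (B ⧸ q) L).2 (by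
    rw [IsScalarTower.algebraMap_eq (B ⧸ q) (T ⧸ Q) L]
    refine (IsFractionRing.injective (T ⧸ Q) L).comp ?_
    refine (injective_iff_map_eq_zero (algebraMap (B ⧸ q) (T ⧸ Q))).2 fun b hb => ?_
    obtain ⟨b, rfl⟩ := Ideal.Quotient.mk_surjective b
    exact Ideal.Quotient.eq_zero_iff_mem.2 (Ideal.Quotient.eq_zero_iff_mem.1 hb : _))
  let κ := FractionRing (B ⧸ q)
  letI : Algebra κ L := FractionRing.liftAlgebra _ _
  haveI : IsScalarTower (B ⧸ q) κ L := FractionRing.isScalarTower_liftAlgebra _ _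
  have hB : ∀ b : B, ∃ c : κ, algebraMap κ L c = φ (algebraMap B T b) := fun b =>
    ⟨algebraMap (B ⧸ q) κ (Ideal.Quotient.mk q b), by rw [← IsScalarTower.algebraMap_apply]; rfl⟩
  have hA : ∀ a : A, algebraMap B T (algebraMap A B a) = (1 : B) ⊗ₜ algebraMap A K' a := fun a => by
    show algebraMap A B a ⊗ₜ (1 : K') = _
    rw [Algebra.algebraMap_eq_smul_one, Algebra.algebraMap_eq_smul_one, TensorProduct.smul_tmul]
  have hK : ∀ c : FractionRing A, ∃ c' : κ, algebraMap κ L c' = φ (1 ⊗ₜ algebraMap (FractionRing A) K' c) := by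
    intro c
    obtain ⟨a, s, hs, rfl⟩ := IsFractionRing.div_surjective (A := A) c
    obtain ⟨a', ha'⟩ := hB (algebraMap A B a)
    obtain ⟨s', hs'⟩ := hB (algebraMap A B s)
    refine ⟨a' / s', ?_⟩
    have h0 : algebraMap A K' s ≠ 0 := by
      rw [IsScalarTower.algebraMap_apply A (FractionRing A) K']
      exact (map_ne_zero _).2 (IsFractionRing.to_map_ne_zero_of_mem_nonZeroDivisors hs)
    let j : K' →+* L := φ.comp Algebra.TensorProduct.includeRight.toRingHom
    rw [map_div₀, ha', hs', hA, hA, map_div₀]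
    show j _ / j _ = j _
    rw [← map_div₀, IsScalarTower.algebraMap_apply A (FractionRing A) K',
      IsScalarTower.algebraMap_apply A (FractionRing A) K']
  let e := Module.finBasis (FractionRing A) K'
  let E : Submodule κ L := Submodule.span κ (Set.range fun i => φ (1 ⊗ₜ e i))
  have hTE : ∀ t, φ t ∈ E := fun t => by
    induction t using TensorProduct.induction_on with
    | zero => rw [map_zero]; exact zero_mem _
    | tmul b k =>
      obtain ⟨b', hb'⟩ := hB b
      rw [show b ⊗ₜ[A] k = algebraMap B T b * ∑ i, ((1 : B) ⊗ₜ[A] algebraMap (FractionRing A) K' (e.repr k i)) *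
          ((1 : B) ⊗ₜ[A] e i) by
        simp only [Algebra.TensorProduct.tmul_mul_tmul, mul_one, ← Algebra.smul_def, ← TensorProduct.tmul_sum,
          e.sum_repr]
        rw [TensorProduct.smul_tmul', smul_eq_mul, mul_one], map_mul, ← hb', map_sum, ← Algebra.smul_def]
      refine Submodule.smul_mem _ _ (Submodule.sum_mem _ fun i _ => ?_)
      obtain ⟨c', hc'⟩ := hK (e.repr k i)
      rw [map_mul, ← hc', ← Algebra.smul_def]
      exact Submodule.smul_mem _ _ (Submodule.subset_span ⟨i, rfl⟩)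
    | add x y hx hy => rw [map_add]; exact add_mem hx hy
  let S : Subalgebra κ L := E.toSubalgebra (map_one φ ▸ hTE 1) fun x y hx hy => by
    have h := Submodule.mul_mem_mul hx hy
    rw [Submodule.span_mul_span] at h
    refine Submodule.span_le.2 ?_ h
    rintro _ ⟨_, ⟨i, rfl⟩, _, ⟨i', rfl⟩, rfl⟩
    show φ _ * φ _ ∈ E
    rw [← map_mul]
    exact hTE _
  haveI : FiniteDimensional κ E := FiniteDimensional.span_of_finite κ (Set.finite_range _)
  haveI : Module.Finite κ S := ‹FiniteDimensional κ E›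
  have hSf : IsField S := isField_of_isIntegral_of_isField' (Field.toIsField κ)
  have htop : E = ⊤ := by
    refine eq_top_iff.2 fun z _ => ?_
    obtain ⟨x, y, hy, rfl⟩ := IsFractionRing.div_surjective (A := T ⧸ Q) z
    obtain ⟨x, rfl⟩ := Ideal.Quotient.mk_surjective x
    obtain ⟨y, rfl⟩ := Ideal.Quotient.mk_surjective y
    obtain ⟨r, hr⟩ := hSf.mul_inv_cancel (a := (⟨φ y, hTE y⟩ : S)) fun h =>
      IsFractionRing.to_map_ne_zero_of_mem_nonZeroDivisors hy (congrArg Subtype.val h)
    have hr' : φ y * (r : L) = 1 := congrArg Subtype.val hr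
    show φ x / φ y ∈ E
    rw [div_eq_mul_inv, ← eq_inv_of_mul_eq_one_right hr']
    exact (Subalgebra.mul_mem S (show φ x ∈ S from hTE x) r.2 : φ x * (r : L) ∈ S)
  haveI : FiniteDimensional κ L := Module.Finite.equiv ((LinearEquiv.ofEq _ _ htop).trans Submodule.topEquiv)
  haveI : Module.Finite (B ⧸ q) (integralClosure (B ⧸ q) L) := hJ q hq L inferInstance
  haveI : Module.Finite B (integralClosure (B ⧸ q) L) :=
    Module.Finite.trans (B ⧸ q) (integralClosure (B ⧸ q) L)
  refine ⟨(Subalgebra.toSubmodule (integralClosure (B ⧸ q) L)).restrictScalars B, Module.Finite.iff_fg.1 ‹_›,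
    fun k hk => ?_⟩
  obtain ⟨P, hP, hPk⟩ := hk
  let j : K' →+* L := φ.comp Algebra.TensorProduct.includeRight.toRingHom
  refine ⟨P.map ((Ideal.Quotient.mk q).comp (algebraMap A B)), hP.map _, ?_⟩
  rw [Polynomial.eval₂_map]
  have hcomp : (algebraMap (B ⧸ q) L).comp ((Ideal.Quotient.mk q).comp (algebraMap A B)) =
      j.comp (algebraMap A K') := RingHom.ext fun a => by
    show φ (algebraMap B T (algebraMap A B a)) = φ (1 ⊗ₜ algebraMap A K' a)
    rw [hA]
  rw [hcomp]
  show Polynomial.eval₂ (j.comp (algebraMap A K')) (j k) P = 0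
  rw [← Polynomial.hom_eval₂, hPk, map_zero]

theorem main [IsNoetherianRing B] [Module.Flat A B] [FiniteDimensional (FractionRing A) K']
    (hJ : ∀ (q : Ideal B) [q.IsPrime], q ∈ minimalPrimes B → CAlg.IsN2 (B ⧸ q)) :
    ∃ Cα : Subalgebra A K', Member A K' Cα ∧ ∀ C : Subalgebra A K', Member A K' C → ∀ hle : Cα ≤ C,
        (∀ x : ↥Cα ⊗[A] B, IsNilpotent (Algebra.TensorProduct.map (Subalgebra.inclusion hle) (AlgHom.id A B) x) →
          IsNilpotent x) ∧
        (∀ y : ↥C ⊗[A] B, ∃ x : ↥Cα ⊗[A] B,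
          IsNilpotent (Algebra.TensorProduct.map (Subalgebra.inclusion hle) (AlgHom.id A B) x - y)) := by
  classical
  let T := B ⊗[A] K'
  haveI := isNoetherianRing_fibre (A := A) (K' := K') B
  haveI : ∀ Q : minimalPrimes T, Q.1.IsPrime := fun Q => Q.2.1.1
  haveI : Finite (minimalPrimes T) := (minimalPrimes.finite_of_isNoetherianRing T).to_subtype
  choose M hM hMmem using fun Q : minimalPrimes T => exists_bound (A := A) (K' := K') B hJ Q.1 Q.2
  let Φ : T →ₗ[B] (∀ Q : minimalPrimes T, FractionRing (T ⧸ Q.1)) :=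
    LinearMap.pi fun Q => ((IsScalarTower.toAlgHom B (T ⧸ Q.1) (FractionRing (T ⧸ Q.1))).comp
      (Ideal.Quotient.mkₐ B Q.1)).toLinearMap
  have hΦ : ∀ t, Φ t = 0 → IsNilpotent t := fun t ht => by
    rw [← mem_nilradical, nilradical_eq_sInf, Submodule.mem_sInf]
    intro (P : Ideal T) (hP : Ideal.IsPrime P)
    obtain ⟨Q, hQ, hQP⟩ := Ideal.exists_minimalPrimes_le (bot_le : (⊥ : Ideal T) ≤ P)
    exact hQP (Ideal.Quotient.eq_zero_iff_mem.1
      (IsFractionRing.injective (T ⧸ Q) (FractionRing (T ⧸ Q)) ((congrFun ht ⟨Q, hQ⟩).trans (map_zero _).symm)))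
  let N : Submodule B (∀ Q : minimalPrimes T, FractionRing (T ⧸ Q.1)) := Submodule.pi Set.univ M
  haveI : ∀ Q, IsNoetherian B (M Q) := fun Q => isNoetherian_of_fg_of_noetherian _ (hM Q)
  haveI : IsNoetherian B N := isNoetherian_of_injective
    (LinearMap.pi fun Q => LinearMap.codRestrict (M Q) ((LinearMap.proj Q).comp N.subtype)
      fun z => z.2 Q (Set.mem_univ Q))
    fun a b h => Subtype.ext (funext fun Q => congrArg Subtype.val (congrFun h Q))
  let S : Subalgebra A K' → Submodule B (∀ Q : minimalPrimes T, FractionRing (T ⧸ Q.1)) := fun C =>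
    Submodule.span B (Set.range fun c : C => Φ (1 ⊗ₜ (c : K')))
  have hSN : ∀ C, Member A K' C → S C ≤ N := fun C hC => Submodule.span_le.2 (by
    rintro _ ⟨c, rfl⟩ Q -
    haveI := hC.1
    exact hMmem Q _ ((Algebra.IsIntegral.isIntegral (R := A) c).map C.val))
  obtain ⟨C₀, hC₀⟩ := exists_member (A := A) (K' := K')
  obtain ⟨_, ⟨Cα, hCα, rfl⟩, hmax⟩ := set_has_maximal_iff_noetherian.2 ‹IsNoetherian B N›
    ((fun C => (S C).comap N.subtype) '' {C | Member A K' C}) ⟨_, C₀, hC₀, rfl⟩
  refine ⟨Cα, hCα, fun C hC hle => ⟨fun x hx => ?_, fun y => ?_⟩⟩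
  · refine isNilpotent_of_toT B Cα x ?_
    rw [← toT_incl B hle]
    exact hx.map _
  · have hSle : S Cα ≤ S C := Submodule.span_mono (by
      rintro _ ⟨c, rfl⟩
      exact ⟨⟨c, hle c.2⟩, rfl⟩)
    have hSeq : S C ≤ S Cα := fun z hz => by
      have h := eq_of_le_of_not_lt (Submodule.comap_mono (f := N.subtype) hSle) (hmax _ ⟨C, hC, rfl⟩)
      exact (h.ge (show (⟨z, hSN C hC hz⟩ : N) ∈ (S C).comap N.subtype from hz) :
        (⟨z, hSN C hC hz⟩ : N) ∈ (S Cα).comap N.subtype)
    have hsm : ∀ (b : B) (k : K'), b • ((1 : B) ⊗ₜ[A] k) = b ⊗ₜ k := fun b k => by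
      rw [TensorProduct.smul_tmul', smul_eq_mul, mul_one]
    have hy : Φ (toT B C y) ∈ S C := by
      induction y using TensorProduct.induction_on with
      | zero => rw [map_zero, map_zero]; exact zero_mem _
      | tmul c b =>
        rw [toT_tmul, ← hsm, map_smul]
        exact Submodule.smul_mem _ _ (Submodule.subset_span ⟨c, rfl⟩)
      | add y y' hy hy' => rw [map_add, map_add]; exact add_mem hy hy'
    obtain ⟨x, hx⟩ : ∃ x, Φ (toT B Cα x) = Φ (toT B C y) := by
      refine Submodule.span_induction (p := fun z _ => ∃ x, Φ (toT B Cα x) = z) ?_ ⟨0, by rw [map_zero, map_zero]⟩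
        ?_ ?_ (hSeq hy)
      · rintro _ ⟨c, rfl⟩
        exact ⟨c ⊗ₜ 1, rfl⟩
      · rintro _ _ - - ⟨x, rfl⟩ ⟨x', rfl⟩
        exact ⟨x + x', by rw [map_add, map_add]⟩
      · rintro b _ - ⟨x, rfl⟩
        refine ⟨(1 ⊗ₜ b) * x, ?_⟩
        rw [map_mul, toT_tmul, ← map_smul]
        congr 1
        rw [Algebra.smul_def]
        rfl
    refine ⟨x, isNilpotent_of_toT B C _ (hΦ _ ?_)⟩
    rw [map_sub, map_sub, toT_incl, hx, sub_self]

omit [IsDomain A] in
/-- The faithfully flat case gives a radicial map. -/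
theorem radicial [Module.FaithfullyFlat A B] {Cα : Subalgebra A K'}
    (h : ∀ y : K', IsIntegral A y → ∃ (C : Subalgebra A K') (hle : Cα ≤ C), y ∈ C ∧
      ∀ z : ↥C ⊗[A] B, ∃ x : ↥Cα ⊗[A] B,
        IsNilpotent (Algebra.TensorProduct.map (Subalgebra.inclusion hle) (AlgHom.id A B) x - z) ∧
        C ≤ integralClosure A K')
    (hint : Cα ≤ integralClosure A K') :
    MorLib.RUH.Radicial (Subalgebra.inclusion hint).toRingHom := by
  intro F _ f g hfg
  refine RingHom.ext fun y => ?_
  obtain ⟨C, hle, hyC, hC⟩ := h y y.2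
  obtain ⟨x, hx, hCint⟩ := hC ((⟨y, hyC⟩ : C) ⊗ₜ 1)
  letI : Algebra A F := (f.comp (algebraMap A (integralClosure A K'))).toAlgebra
  let f' : ↥C →ₐ[A] F :=
    { f.comp (Subalgebra.inclusion hCint).toRingHom with commutes' := fun a => rfl }
  have hgA : ∀ a, g (algebraMap A (integralClosure A K') a) = f (algebraMap A (integralClosure A K') a) :=
    fun a => (RingHom.congr_fun hfg (algebraMap A Cα a)).symm
  let g' : ↥C →ₐ[A] F :=
    { g.comp (Subalgebra.inclusion hCint).toRingHom with commutes' := fun a => hgA a }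
  obtain ⟨N, hN⟩ := Ideal.exists_maximal (F ⊗[A] B)
  letI : Field ((F ⊗[A] B) ⧸ N) := Ideal.Quotient.field N
  let iF : F →ₐ[A] (F ⊗[A] B) ⧸ N := (Ideal.Quotient.mkₐ A N).comp Algebra.TensorProduct.includeLeft
  let iB : B →ₐ[A] (F ⊗[A] B) ⧸ N := (Ideal.Quotient.mkₐ A N).comp Algebra.TensorProduct.includeRight
  let Ff : ↥C ⊗[A] B →ₐ[A] (F ⊗[A] B) ⧸ N :=
    Algebra.TensorProduct.lift (iF.comp f') iB fun _ _ => Commute.all _ _
  let Fg : ↥C ⊗[A] B →ₐ[A] (F ⊗[A] B) ⧸ N :=
    Algebra.TensorProduct.lift (iF.comp g') iB fun _ _ => Commute.all _ _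
  have hα : ∀ x, Ff (Algebra.TensorProduct.map (Subalgebra.inclusion hle) (AlgHom.id A B) x) =
      Fg (Algebra.TensorProduct.map (Subalgebra.inclusion hle) (AlgHom.id A B) x) := fun x => by
    induction x using TensorProduct.induction_on with
    | zero => simp
    | tmul c b =>
      show iF (f ⟨c, _⟩) * iB b = iF (g ⟨c, _⟩) * iB b
      rw [show f ⟨c, hint c.2⟩ = g ⟨c, hint c.2⟩ from RingHom.congr_fun hfg c]
    | add x y hx hy => simp only [map_add, hx, hy]
  have e1 : Ff ((⟨y, hyC⟩ : C) ⊗ₜ 1) = Fg ((⟨y, hyC⟩ : C) ⊗ₜ 1) := by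
    have h1 := IsReduced.eq_zero _ (hx.map Ff)
    have h2 := IsReduced.eq_zero _ (hx.map Fg)
    rw [map_sub, sub_eq_zero] at h1 h2
    rw [← h1, ← h2, hα]
  have e2 : iF (f y) = iF (g y) := by
    rw [Algebra.TensorProduct.lift_tmul, Algebra.TensorProduct.lift_tmul, map_one iB, mul_one, mul_one] at e1
    exact e1
  exact iF.toRingHom.injective e2

theorem radical_of_main [Module.FaithfullyFlat A B] {Cα : Subalgebra A K'} (hCα : Member A K' Cα)
    (hmain : ∀ C : Subalgebra A K', Member A K' C → ∀ hle : Cα ≤ C,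
        (∀ x : ↥Cα ⊗[A] B, IsNilpotent (Algebra.TensorProduct.map (Subalgebra.inclusion hle) (AlgHom.id A B) x) →
          IsNilpotent x) ∧
        (∀ y : ↥C ⊗[A] B, ∃ x : ↥Cα ⊗[A] B,
          IsNilpotent (Algebra.TensorProduct.map (Subalgebra.inclusion hle) (AlgHom.id A B) x - y)))
    (hint : Cα ≤ integralClosure A K') :
    MorLib.RUH.Radicial (Subalgebra.inclusion hint).toRingHom := by
  refine radicial B (fun y hy => ?_) hint
  have hfin : Module.Finite A (Algebra.adjoin A {y}) := Module.Finite.iff_fg.2 hy.fg_adjoin_singleton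
  have hC := member_sup hCα hfin
  refine ⟨Cα ⊔ Algebra.adjoin A {y}, le_sup_left, le_sup_right (a := Cα) (Algebra.self_mem_adjoin_singleton A y),
    fun z => ?_⟩
  obtain ⟨x, hx⟩ := (hmain _ hC le_sup_left).2 z
  haveI := hC.1
  exact ⟨x, hx, sup_le hint (Algebra.adjoin_le (Set.singleton_subset_iff.2 hy))⟩

end Groth.Agent.RedTensLib
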